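import Cfsg.Agent.Lib.PrimClass.FixedPoints
import Cfsg.Agent.Lib.Char.ChiefRestrict
import Cfsg.Agent.Lib.Char.Degree
import Cfsg.Agent.Lib.Functors.ChiefAct

/-!
# Class sizes and the degree of a primitive character of a solvable group

For a primitive character the prime-to-trivial chief factors account for the square of the degree,
and each of them is moved by at least half on average.
-/

set_option autoImplicit false
set_option linter.style.haveILetI false
set_option linter.unusedSectionVars false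

namespace Cfsg.Agent.PrimClass

open scoped commutatorElement
open Cfsg.Agent.Char

universe u

variable {G : Type u} [Group G] [Fintype G]

/-- Not induced from a proper subgroup. -/
def Prim (χ : G → ℂ) : Prop :=
  ¬ ∃ H : Subgroup G, H ≠ ⊤ ∧ ∃ θ : ↥H → ℂ, Cfsg.IsCharacter ↥H θ ∧ Cfsg.indFun H θ = χ

theorem Prim.inertia_top {χ : G → ℂ} (hP : Prim χ) (hχ : Cfsg.IsIrrCharacter G χ) (N : Subgroup G)
    [N.Normal] [Fintype N] {θ : N → ℂ} (hθ : Cfsg.IsIrrCharacter N θ)
    (hcon : Cfsg.classInner (fun n : N => χ n) θ ≠ 0) : inertia N θ = ⊤ := by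
  classical
  by_contra hne
  haveI : Fintype (inertia N θ) := Fintype.ofFinite _
  obtain ⟨ψ, hψ, hind, -⟩ := clifford_correspondence_surjective N hθ rfl
    (le_inertia N (IsCharacter.isClassFunction (IsIrrCharacter.isCharacter hθ))) hχ hcon
  exact hP ⟨_, hne, ψ, IsIrrCharacter.isCharacter hψ, hind⟩

theorem Prim.invariant {χ : G → ℂ} (hP : Prim χ) (hχ : Cfsg.IsIrrCharacter G χ) (N : Subgroup G)
    [N.Normal] [Fintype N] {θ : N → ℂ} (hθ : Cfsg.IsIrrCharacter N θ)
    (hcon : Cfsg.classInner (fun n : N => χ n) θ ≠ 0) (g : G) (n : N) :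
    θ (conjHom N g n) = θ n :=
  (mem_inertia_iff N).mp ((hP.inertia_top hχ N hθ hcon) ▸ Subgroup.mem_top g) n

theorem Prim.conjOrbit_eq {χ : G → ℂ} (hP : Prim χ) (hχ : Cfsg.IsIrrCharacter G χ) (N : Subgroup G)
    [N.Normal] [Fintype N] {θ : N → ℂ} (hθ : Cfsg.IsIrrCharacter N θ)
    (hcon : Cfsg.classInner (fun n : N => χ n) θ ≠ 0) : conjOrbit N θ = {θ} := by
  refine Finset.eq_singleton_iff_unique_mem.mpr
    ⟨(mem_conjOrbit N).mpr ⟨1, (conjChar_one N θ).symm⟩, fun ψ hψ => ?_⟩
  obtain ⟨g, rfl⟩ := (mem_conjOrbit N).mp hψ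
  exact (mem_inertia N).mp ((hP.inertia_top hχ N hθ hcon) ▸ Subgroup.mem_top g)

theorem Prim.unique {χ : G → ℂ} (hP : Prim χ) (hχ : Cfsg.IsIrrCharacter G χ) (N : Subgroup G)
    [N.Normal] [Fintype N] {θ φ : N → ℂ} (hθ : Cfsg.IsIrrCharacter N θ)
    (hφ : Cfsg.IsIrrCharacter N φ) (h1 : Cfsg.classInner (fun n : N => χ n) θ ≠ 0)
    (h2 : Cfsg.classInner (fun n : N => χ n) φ ≠ 0) : φ = θ := by
  have := restrict_constituent_conj N hχ hθ hφ h1 h2
  rw [hP.conjOrbit_eq hχ N hθ h1, Finset.mem_singleton] at this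
  exact this

theorem Prim.restrict {χ : G → ℂ} (hP : Prim χ) (hχ : Cfsg.IsIrrCharacter G χ) (N : Subgroup G)
    [N.Normal] [Fintype N] {θ : N → ℂ} (hθ : Cfsg.IsIrrCharacter N θ)
    (hcon : Cfsg.classInner (fun n : N => χ n) θ ≠ 0) :
    (fun n : N => χ n) = Cfsg.classInner (fun n : N => χ n) θ • θ := by
  have := clifford N hχ hθ hcon
  rwa [hP.conjOrbit_eq hχ N hθ hcon, Finset.sum_singleton] at this

/-- The index of the centralizer of an element in a normal subgroup. -/
noncomputable def fIdx (K : Subgroup G) (g : G) : ℕ :=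
  (K ⊓ Subgroup.centralizer ({g} : Set G)).relIndex K

theorem card_eq_card_map_mul (L X : Subgroup G) [L.Normal] :
    Nat.card ↥X = Nat.card ↥(X.map (QuotientGroup.mk' L)) * Nat.card ↥(L ⊓ X : Subgroup G) := by
  have h1 : L.relIndex X = Nat.card ↥(X.map (QuotientGroup.mk' L)) := by
    conv_lhs => rw [← QuotientGroup.ker_mk' L]
    rw [Subgroup.relIndex_ker]
  rw [← h1, ← Subgroup.inf_relIndex_right L X, ← Subgroup.relIndex_bot_left (L ⊓ X),
    mul_comm, Subgroup.relIndex_mul_relIndex _ _ _ bot_le inf_le_right, Subgroup.relIndex_bot_left]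

theorem fIdx_mul_dvd (K L : Subgroup G) [L.Normal] (hLK : L ≤ K) (g : G)
    (S : Subgroup ↥(K.map (QuotientGroup.mk' L)))
    (hS : ∀ x ∈ K, x * g = g * x →
      ∀ v : ↥(K.map (QuotientGroup.mk' L)), (v : G ⧸ L) = QuotientGroup.mk' L x → v ∈ S) :
    fIdx L g * S.index ∣ fIdx K g := by
  classical
  set Z := Subgroup.centralizer ({g} : Set G)
  have eK : fIdx K g * Nat.card ↥(K ⊓ Z : Subgroup G) = Nat.card ↥K := by
    rw [fIdx, mul_comm, ← Subgroup.relIndex_bot_left (K ⊓ Z),
      Subgroup.relIndex_mul_relIndex _ _ _ bot_le inf_le_left, Subgroup.relIndex_bot_left]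
  have eL : fIdx L g * Nat.card ↥(L ⊓ Z : Subgroup G) = Nat.card ↥L := by
    rw [fIdx, mul_comm, ← Subgroup.relIndex_bot_left (L ⊓ Z),
      Subgroup.relIndex_mul_relIndex _ _ _ bot_le inf_le_left, Subgroup.relIndex_bot_left]
  have e1 := card_eq_card_map_mul L (K ⊓ Z)
  rw [← inf_assoc, inf_eq_left.2 hLK] at e1
  have e2 := card_eq_card_map_mul L K
  rw [inf_eq_left.2 hLK] at e2
  obtain ⟨x, hx⟩ : Nat.card ↥((K ⊓ Z).map (QuotientGroup.mk' L)) ∣ Nat.card ↥S := by
    rw [← Nat.card_congr (Subgroup.equivMapOfInjective S (K.map (QuotientGroup.mk' L)).subtype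
      (Subgroup.subtype_injective _)).toEquiv.symm]
    refine Subgroup.card_dvd_of_le ?_
    rintro _ ⟨y, hy, rfl⟩
    refine ⟨⟨_, Subgroup.mem_map_of_mem _ (Subgroup.mem_inf.1 hy).1⟩, hS y (Subgroup.mem_inf.1 hy).1 ?_ _ rfl, rfl⟩
    exact Subgroup.mem_centralizer_singleton_iff.1 (Subgroup.mem_inf.1 hy).2
  have e3 := S.card_mul_index
  refine ⟨x, ?_⟩
  have hpos : 0 < Nat.card ↥((K ⊓ Z).map (QuotientGroup.mk' L)) * Nat.card ↥(L ⊓ Z : Subgroup G) :=
    Nat.mul_pos Nat.card_pos Nat.card_pos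
  refine Nat.eq_of_mul_eq_mul_right hpos ?_
  calc fIdx K g * (Nat.card ↥((K ⊓ Z).map (QuotientGroup.mk' L)) * Nat.card ↥(L ⊓ Z : Subgroup G))
      = Nat.card ↥K := by rw [← e1, eK]
    _ = Nat.card ↥(K.map (QuotientGroup.mk' L)) * Nat.card ↥L := e2
    _ = fIdx L g * S.index * x * (Nat.card ↥((K ⊓ Z).map (QuotientGroup.mk' L)) *
        Nat.card ↥(L ⊓ Z : Subgroup G)) := by rw [← e3, hx, ← eL]; ring

variable [hsolv : Group.IsSolvable G] (p : ℕ) [hp : Fact p.Prime] (C : Subgroup G)
  (hC : ∀ K L : Subgroup G, Cfsg.IsChiefFactor K L → (∃ n : ℕ, L.relIndex K = p ^ n) →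
    ∀ c ∈ C, ∀ x ∈ K, ⁅x, c⁆ ∈ L)

include hsolv hp hC in
/-- The main induction. -/
theorem exists_mass {χ : G → ℂ} (hχ : Cfsg.IsIrrCharacter G χ) (hP : Prim χ) :
    ∀ K : Subgroup G, K.Normal → ∀ [Fintype K] (θ : K → ℂ), Cfsg.IsIrrCharacter K θ →
      Cfsg.classInner (fun k : K => χ k) θ ≠ 0 → ∀ d : ℕ, θ 1 = d →
      ∃ ℓ : G → ℕ, (∀ g, ℓ g ≤ (fIdx K g).factorization p) ∧ (∀ g, ∀ c ∈ C, ℓ (g * c) = ℓ g) ∧
        Nat.card G * d.factorization p ≤ ∑ g : G, ℓ g := by
  classical
  intro K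
  induction K using (wellFounded_lt (α := Subgroup G)).induction with
  | _ K ih =>
  intro hKn _ θ hθ hcon d hd
  rcases eq_or_ne K ⊥ with hK | hK
  · subst hK
    refine ⟨0, fun g => Nat.zero_le _, fun g c _ => rfl, ?_⟩
    have h1 := degree_one_of_comm (G := ↥(⊥ : Subgroup G))
      (fun a b => Subsingleton.elim _ _) hθ
    rw [hd, Nat.cast_eq_one] at h1
    simp [h1]
  obtain ⟨L, -, hch⟩ := ChiefAct.exists_chiefFactor_above (G := G) (Z := ⊥) (A := K)
    (bot_lt_iff_ne_bot.2 hK)
  obtain ⟨hLK, -, hLn, hchief⟩ := id hch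
  haveI := hLn
  haveI := Fintype.ofFinite ↥L
  set Kb := K.map (QuotientGroup.mk' L) with hKb
  haveI hKbn : Kb.Normal := hKn.map _ (QuotientGroup.mk'_surjective L)
  have hKbne : Kb ≠ ⊥ := by
    rw [hKb, Ne, Subgroup.map_eq_bot_iff, QuotientGroup.ker_mk']
    exact fun h => hLK.ne (le_antisymm hLK.le h)
  have hKbmin : ∀ W : Subgroup (G ⧸ L), W.Normal → W ≤ Kb → W = ⊥ ∨ W = Kb := by
    intro W hW hWK
    have hLW : L ≤ W.comap (QuotientGroup.mk' L) := fun x hx => by
      rw [Subgroup.mem_comap, QuotientGroup.mk'_apply, (QuotientGroup.eq_one_iff x).2 hx]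
      exact W.one_mem
    have hWK' : W.comap (QuotientGroup.mk' L) ≤ K := by
      refine (Subgroup.comap_mono hWK).trans ?_
      rw [hKb, Subgroup.comap_map_eq, QuotientGroup.ker_mk', sup_eq_left.2 hLK.le]
    rcases hchief _ (hW.comap _) hLW hWK' with h | h
    · left
      rw [← Subgroup.map_comap_eq_self_of_surjective (QuotientGroup.mk'_surjective L) W, h,
        QuotientGroup.map_mk'_self]
    · right
      rw [← Subgroup.map_comap_eq_self_of_surjective (QuotientGroup.mk'_surjective L) W, h]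
  haveI : Group.IsSolvable ↥Kb := inferInstance
  haveI hKbc := SolvBasic.isMulCommutative_of_minimal_normal hKbne hKbmin
  obtain ⟨r, hr, -, hKbr⟩ := SolvBasic.exists_prime_exponent_of_minimal_normal hKbne hKbmin
  haveI := Fact.mk hr
  obtain ⟨n, hn⟩ := IsPGroup.iff_card.1 hKbr
  have hrel : L.relIndex K = r ^ n := by
    rw [← hn, hKb]
    conv_lhs => rw [← QuotientGroup.ker_mk' L]
    rw [Subgroup.relIndex_ker]
  have hn0 : n ≠ 0 := fun h => hKbne (Subgroup.card_eq_one.1 (by rw [hn, h, pow_zero]))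
  have hab : ⁅K, K⁆ ≤ L := by
    refine Subgroup.commutator_le.2 fun x hx y hy => ?_
    rw [← QuotientGroup.eq_one_iff, ← QuotientGroup.mk'_apply, map_commutatorElement,
      commutatorElement_eq_one_iff_mul_comm]
    exact setLike_mul_comm (s := Kb) (Subgroup.mem_map_of_mem _ hx) (Subgroup.mem_map_of_mem _ hy)
  -- constituents below
  have hθK : (fun k : K => χ k) = Cfsg.classInner (fun k : K => χ k) θ • θ :=
    hP.restrict hχ K hθ hcon
  have hbelow : ∀ φ : L → ℂ,
      Cfsg.classInner (fun x : L => θ ⟨(x : G), hLK.le x.2⟩) φ ≠ 0 →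
      Cfsg.classInner (fun x : L => χ x) φ ≠ 0 := by
    intro φ h
    have e : (fun x : L => χ x) =
        Cfsg.classInner (fun k : K => χ k) θ • fun x : L => θ ⟨(x : G), hLK.le x.2⟩ :=
      funext fun x => congrFun hθK ⟨(x : G), hLK.le x.2⟩
    rw [e, classInner_smul_left]
    exact mul_ne_zero hcon h
  have hmono : ∀ g, (fIdx L g).factorization p ≤ (fIdx K g).factorization p := fun g => by
    refine (Nat.factorization_le_iff_dvd Subgroup.index_ne_zero_of_finite
      Subgroup.index_ne_zero_of_finite).2 ?_ p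
    exact (Dvd.intro _ rfl).trans (fIdx_mul_dvd K L hLK.le g ⊤ fun _ _ _ _ _ => Subgroup.mem_top _)
  rcases ChiefRestrict.trichotomy K L hLK hchief hab θ hθ (hP.invariant hχ K hθ hcon) with
    h1 | ⟨φ, e, hφ, he, he2⟩ | ⟨F, hF, hFc, hFs⟩
  · obtain ⟨ℓ, hℓ, hℓC, hsum⟩ := ih L hLK hLn _ h1
      (hbelow _ (by rw [classInner_self_irr h1]; exact one_ne_zero)) d hd
    exact ⟨ℓ, fun g => (hℓ g).trans (hmono g), hℓC, hsum⟩
  · have he0 : e ≠ 0 := fun h => by
      rw [h, sq, mul_zero] at he2
      exact Subgroup.index_ne_zero_of_finite he2.symm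
    have hφcon := hbelow φ (by
      rw [he, classInner_smul_left, classInner_self_irr hφ, mul_one]
      exact Nat.cast_ne_zero.2 he0)
    obtain ⟨d', hd'0, hd'⟩ := IsIrrCharacter.exists_degree hφ
    obtain ⟨ℓ, hℓ, hℓC, hsum⟩ := ih L hLK hLn φ hφ hφcon d' hd'
    have hdd : d = e * d' := by
      have h := congrFun he 1
      simp only [Pi.smul_apply, smul_eq_mul, OneMemClass.coe_one] at h
      rw [hd', show θ ⟨1, _⟩ = θ 1 from rfl, hd] at h
      exact_mod_cast h
    have hd'0' : d' ≠ 0 := fun h => IsIrrCharacter.one_ne_zero hφ (by rw [hd', h, Nat.cast_zero])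
    rw [hdd, Nat.factorization_mul he0 hd'0', Finsupp.add_apply]
    by_cases hrp : r = p
    · subst hrp
      letI : CommGroup ↥Kb :=
        { (inferInstance : Group ↥Kb) with
          mul_comm := fun a b => Subtype.ext (setLike_mul_comm a.2 b.2) }
      let φG : G →* MulAut ↥Kb := (MulAut.conjNormal (H := Kb)).comp (QuotientGroup.mk' L)
      have hφG : ∀ g (v : ↥Kb), (φG g v : G ⧸ L) =
          QuotientGroup.mk' L g * v * (QuotientGroup.mk' L g)⁻¹ := fun g v => rfl
      have hne : ∃ g v, φG g v ≠ v := by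
        by_contra hall
        push Not at hall
        obtain ⟨y, hy⟩ := exists_prime_orderOf_dvd_card' (G := ↥Kb) r
          (by rw [hn]; exact dvd_pow_self r hn0)
        have hZn : (Subgroup.zpowers (y : G ⧸ L)).Normal := ⟨fun z hz t => by
          obtain ⟨g, rfl⟩ := QuotientGroup.mk'_surjective L t
          have hzK : z ∈ Kb := Subgroup.zpowers_le.2 y.2 hz
          have h1 := hφG g ⟨z, hzK⟩
          rw [hall g ⟨z, hzK⟩] at h1
          rwa [← h1]⟩
        rcases hKbmin _ hZn (Subgroup.zpowers_le.2 y.2) with h | h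
        · rw [Subgroup.zpowers_eq_bot, OneMemClass.coe_eq_one] at h
          rw [h, orderOf_one] at hy
          exact hr.ne_one hy.symm
        · have h2 : L.relIndex K = r := by
            rw [hrel, ← hn, ← h, Nat.card_zpowers, Subgroup.orderOf_coe, hy]
          rw [← he2, sq] at h2
          exact Irreducible.not_isSquare hr ⟨e, h2.symm⟩
      have hirr : ∀ W : Subgroup ↥Kb, (∀ g, ∀ w ∈ W, φG g w ∈ W) → W = ⊥ ∨ W = ⊤ := by
        intro W hW
        have hWn : (W.map Kb.subtype).Normal := ⟨by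
          rintro _ ⟨w, hw, rfl⟩ t
          obtain ⟨g, rfl⟩ := QuotientGroup.mk'_surjective L t
          exact ⟨φG g w, hW g w hw, rfl⟩⟩
        rcases hKbmin _ hWn (Subgroup.map_subtype_le W) with h | h
        · left
          rwa [Subgroup.map_eq_bot_iff_of_injective _ Kb.subtype_injective] at h
        · right
          refine Subgroup.map_injective Kb.subtype_injective ?_
          rw [h, ← MonoidHom.range_eq_map, Subgroup.range_subtype]
      have hmass := irreducible_bound_factorization (p := r) hKbr φG hne hirr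
      have hCtriv : ∀ c ∈ C, φG c = 1 := by
        intro c hc
        refine MulEquiv.ext fun v => Subtype.ext ?_
        obtain ⟨x, hx, hxv⟩ := Subgroup.mem_map.1 v.2
        rw [hφG, MulAut.one_apply, ← hxv]
        have h1 := hC K L hch ⟨n, hrel⟩ c hc x hx
        rw [← QuotientGroup.eq_one_iff, ← QuotientGroup.mk'_apply, map_commutatorElement,
          commutatorElement_eq_one_iff_mul_comm] at h1
        rw [← h1, mul_inv_cancel_right]
      refine ⟨fun g => ℓ g + ((fixG (φG g)).index).factorization r, fun g => ?_, fun g c hc => ?_, ?_⟩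
      · refine le_trans (Nat.add_le_add_right (hℓ g) _) ?_
        rw [← Finsupp.add_apply, ← Nat.factorization_mul
          (show fIdx L g ≠ 0 from Subgroup.index_ne_zero_of_finite)
          Subgroup.index_ne_zero_of_finite]
        refine (Nat.factorization_le_iff_dvd (mul_ne_zero Subgroup.index_ne_zero_of_finite
          Subgroup.index_ne_zero_of_finite) Subgroup.index_ne_zero_of_finite).2
          (fIdx_mul_dvd K L hLK.le g _ fun x _ hxg v hv => ?_) r
        rw [mem_fixG]
        refine Subtype.ext ?_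
        rw [hφG, hv, ← map_mul, ← hxg, map_mul, mul_inv_cancel_right]
      · simp only []
        rw [hℓC g c hc, map_mul, hCtriv c hc, mul_one]
      · rw [Finset.sum_add_distrib]
        have hen : 2 * e.factorization r = n := by
          have := congrArg (fun m => m.factorization r) he2
          simpa [hrel, Nat.factorization_pow, Nat.Prime.factorization_self hr] using this
        rw [hn, Nat.factorization_pow_self hr, ← Finset.mul_sum, ← hen] at hmass
        nlinarith
    · refine ⟨ℓ, fun g => (hℓ g).trans (hmono g), hℓC, ?_⟩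
      have he' : e.factorization p = 0 := by
        have := congrArg (fun m => m.factorization p) he2
        simpa [hrel, Nat.factorization_pow, Nat.Prime.factorization hr, Finsupp.single_apply,
          hrp] using this
      rw [he', zero_add]
      exact hsum
  · exfalso
    have hmem : ∀ ψ ∈ F, Cfsg.classInner (fun x : L => χ x) ψ ≠ 0 := fun ψ hψ => by
      refine hbelow ψ ?_
      rw [hFs, classInner_sum_left, Finset.sum_eq_single ψ]
      · rw [classInner_self_irr (hF ψ hψ)]; exact one_ne_zero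
      · exact fun b hb hne => classInner_irr_of_ne (hF b hb) (hF ψ hψ) hne
      · exact fun h => absurd hψ h
    have hcard : F.card ≤ 1 := Finset.card_le_one.2 fun a ha b hb =>
      (hP.unique hχ L (hF b hb) (hF a ha) (hmem b hb) (hmem a ha))
    rw [hFc, hrel] at hcard
    exact absurd hcard (not_le.2 (Nat.one_lt_pow hn0 hr.one_lt))

include hsolv hp hC in
/-- The function dominated by the class sizes with mean at least the degree exponent. -/
theorem exists_mass_top (χ : Cfsg.IrrCharacter G) (hP : Prim (χ : G → ℂ)) :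
    ∃ ℓ : G → ℕ,
      (∀ g, ℓ g ≤ ((Subgroup.centralizer ({g} : Set G)).index).factorization p) ∧
      (∀ g, ∀ c ∈ C, ℓ (g * c) = ℓ g) ∧
      ∃ g, (Cfsg.charDegree (χ : G → ℂ)).factorization p ≤ ℓ g := by
  classical
  haveI := Fintype.ofFinite ↥(⊤ : Subgroup G)
  have hres : Cfsg.IsIrrCharacter (⊤ : Subgroup G) (fun k : (⊤ : Subgroup G) => (χ : G → ℂ) k) :=
    IsIrrCharacter.comp χ.2 (Subgroup.topEquiv (G := G)).toMonoidHom (Subgroup.topEquiv (G := G)).surjective
  obtain ⟨ℓ, hℓ, hℓC, hsum⟩ := exists_mass p C hC χ.2 hP ⊤ inferInstance _ hres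
    (by rw [classInner_self_irr hres]; exact one_ne_zero) (Cfsg.charDegree (χ : G → ℂ))
    (CharX.irr_deg χ)
  refine ⟨ℓ, fun g => ?_, hℓC, ?_⟩
  · refine (hℓ g).trans (le_of_eq ?_)
    rw [fIdx, top_inf_eq, Subgroup.relIndex_top_right]
  · obtain ⟨g, -, hg⟩ := Finset.exists_le_of_sum_le (s := (Finset.univ : Finset G))
      (f := fun _ => (Cfsg.charDegree (χ : G → ℂ)).factorization p) (g := ℓ)
      ⟨1, Finset.mem_univ 1⟩ (by
        rwa [Finset.sum_const, Finset.card_univ, smul_eq_mul, ← Nat.card_eq_fintype_card])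
    exact ⟨g, hg⟩

end Cfsg.Agent.PrimClass
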