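import Cfsg.Agent.Lib.Solvable.Basic
import Mathlib.GroupTheory.PGroup
import Mathlib.GroupTheory.Perm.Cycle.Basic
import Mathlib.Algebra.Field.ZMod
import Mathlib.Algebra.BigOperators.GroupWithZero.Finset
import Mathlib.Algebra.Group.Subgroup.Finite

/-!
# Fixed points of a solvable irreducible group of automorphisms, on average

The geometric mean of the squares of the numbers of fixed points is at most the order of the
module.
-/

set_option autoImplicit false
set_option linter.style.haveILetI false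
set_option linter.unusedSectionVars false

namespace Cfsg.Agent.PrimClass

universe u

variable {V : Type u} [CommGroup V] [Finite V]

/-- The fixed points of an automorphism. -/
def fixG (σ : MulAut V) : Subgroup V where
  carrier := {v | σ v = v}
  one_mem' := map_one σ
  mul_mem' := fun {a b} (ha : σ a = a) (hb : σ b = b) => by
    show σ (a * b) = a * b
    rw [map_mul, ha, hb]
  inv_mem' := fun {a} (ha : σ a = a) => by
    show σ a⁻¹ = a⁻¹
    rw [map_inv, ha]

theorem mem_fixG {σ : MulAut V} {v : V} : v ∈ fixG σ ↔ σ v = v := Iff.rfl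

section Elementary

variable (A : Subgroup (MulAut V)) (q : ℕ) [hq : Fact q.Prime]
  (hcomm : ∀ a ∈ A, ∀ b ∈ A, a * b = b * a) (hexp : ∀ a ∈ A, a ^ q = 1)
  (hqV : (Nat.card V).Coprime q) (hfix : ∀ v : V, (∀ a ∈ A, a v = v) → v = 1)

/-- The subgroups of index `q`. -/
abbrev Hyp : Type u := {B : Subgroup ↥A // B.index = q}

/-- The unnormalized projection to the fixed points of a hyperplane. -/
noncomputable def proj (B : Subgroup ↥A) : V →* V where
  toFun v := ∏ᶠ b : ↥B, ((b : ↥A) : MulAut V) v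
  map_one' := by simp
  map_mul' v w := by
    rw [← finprod_mul_distrib (Set.toFinite _) (Set.toFinite _)]
    exact finprod_congr fun b => map_mul _ v w

theorem proj_apply_mem {B : Subgroup ↥A} {c : ↥A} (hc : c ∈ B) (v : V) :
    (c : MulAut V) (proj A B v) = proj A B v := by
  show (c : MulAut V) (∏ᶠ b : ↥B, ((b : ↥A) : MulAut V) v) = _
  refine ((c : MulAut V).toMonoidHom.map_finprod (Set.toFinite _)).trans ?_
  exact finprod_eq_of_bijective (fun b : ↥B => (⟨c, hc⟩ : ↥B) * b)
    (Group.mulLeft_bijective _) fun b => by simp [MulAut.mul_apply]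

theorem proj_of_fixed {B : Subgroup ↥A} {u : V} (hu : ∀ c ∈ B, (c : MulAut V) u = u) :
    proj A B u = u ^ Nat.card B := by
  haveI := Fintype.ofFinite ↥B
  show (∏ᶠ b : ↥B, ((b : ↥A) : MulAut V) u) = _
  rw [finprod_eq_prod_of_fintype, Finset.prod_congr rfl fun (b : ↥B) _ => hu b b.2,
    Finset.prod_const, Finset.card_univ, Nat.card_eq_fintype_card]

include hcomm in
theorem proj_comm (B : Subgroup ↥A) (c : ↥A) (v : V) :
    (c : MulAut V) (proj A B v) = proj A B ((c : MulAut V) v) := by
  show (c : MulAut V) (∏ᶠ b : ↥B, ((b : ↥A) : MulAut V) v) = ∏ᶠ b : ↥B, _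
  refine ((c : MulAut V).toMonoidHom.map_finprod (Set.toFinite _)).trans ?_
  refine finprod_congr fun b => ?_
  show (c : MulAut V) (((b : ↥A) : MulAut V) v) = _
  rw [← MulAut.mul_apply, hcomm c c.2 _ (b : ↥A).2, MulAut.mul_apply]

include hq hcomm hfix in
theorem proj_proj_ne {B B' : Hyp A q} (hne : B ≠ B') (v : V) :
    proj A B.1 (proj A B'.1 v) = 1 := by
  apply hfix
  intro a ha
  have htop : B.1 ⊔ B'.1 = ⊤ := by
    by_contra h
    have h1 : ∀ C : Hyp A q, C.1 ≤ B.1 ⊔ B'.1 → B.1 ⊔ B'.1 = C.1 := fun C hC => by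
      have hd := Subgroup.index_dvd_of_le hC
      rw [C.2] at hd
      rcases (Nat.dvd_prime hq.out).1 hd with h0 | h0
      · exact absurd (Subgroup.index_eq_one.1 h0) h
      · refine (Subgroup.eq_of_le_of_card_ge hC ?_).symm
        have e1 := C.1.card_mul_index
        have e2 := (B.1 ⊔ B'.1).card_mul_index
        rw [C.2] at e1
        rw [h0] at e2
        exact (Nat.eq_of_mul_eq_mul_right hq.out.pos (e2.trans e1.symm)).le
    exact hne (Subtype.ext ((h1 B le_sup_left).symm.trans (h1 B' le_sup_right)))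
  have key : ∀ c ∈ B.1 ⊔ B'.1,
      (c : MulAut V) (proj A B.1 (proj A B'.1 v)) = proj A B.1 (proj A B'.1 v) := by
    let S : Subgroup ↥A :=
      { carrier := {c | (c : MulAut V) (proj A B.1 (proj A B'.1 v)) = proj A B.1 (proj A B'.1 v)}
        one_mem' := by simp
        mul_mem' := fun {a b} (ha : _ = _) (hb : _ = _) => by
          show ((a : MulAut V) * (b : MulAut V)) _ = _
          rw [MulAut.mul_apply, hb, ha]
        inv_mem' := fun {a} (ha : _ = _) => by
          show ((a : MulAut V))⁻¹ _ = _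
          conv_lhs => rw [← ha]
          exact (a : MulAut V).symm_apply_apply _ }
    exact sup_le (c := S) (fun c hc => proj_apply_mem A hc _) fun c hc => by
      show (c : MulAut V) _ = _
      rw [proj_comm A hcomm, proj_apply_mem A hc]
  exact key ⟨a, ha⟩ (htop ▸ Subgroup.mem_top _)

include hq hexp hqV hfix hcomm in
theorem eq_one_of_proj {v : V} (hv : ∀ B : Hyp A q, proj A B.1 v = 1) : v = 1 := by
  classical
  have hhom : ∀ (k : ℕ) (c : ↥A), ((c ^ k : ↥A) : MulAut V) = (c : MulAut V) ^ k := fun k c => rfl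
  -- the subgroup of counterexamples is invariant
  let S : Subgroup V :=
    { carrier := {u | ∀ B : Hyp A q, proj A B.1 u = 1}
      one_mem' := fun B => map_one _
      mul_mem' := fun {a b} ha hb B => by rw [map_mul, ha B, hb B, one_mul]
      inv_mem' := fun {a} ha B => by rw [map_inv, ha B, inv_one] }
  by_contra hv1
  have hne : ({B : Subgroup ↥A | ∃ u ∈ S, u ≠ 1 ∧ ∀ c ∈ B, (c : MulAut V) u = u}).Nonempty := by
    refine ⟨⊥, v, hv, hv1, fun c hc => ?_⟩
    rw [Subgroup.mem_bot.1 hc]
    rfl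
  obtain ⟨B, ⟨u, huS, hu1, huB⟩, hmax⟩ := (Set.toFinite _).exists_maximal hne
  have hqpow : ∀ {x : V} {k : ℕ}, x ^ q ^ k = 1 → x = 1 := fun {x k} hx => by
    have h := Nat.eq_one_of_dvd_coprimes (Nat.Coprime.pow_right k hqV) (orderOf_dvd_natCard x)
      (orderOf_dvd_of_pow_eq_one hx)
    exact orderOf_eq_one_iff.1 h
  have hBq : B.index ≠ q := fun h => by
    have h1 := huS ⟨B, h⟩
    rw [proj_of_fixed A huB] at h1
    obtain ⟨k, hk⟩ : ∃ k, Nat.card B = q ^ k := by
      refine IsPGroup.iff_card.1 fun x => ⟨1, ?_⟩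
      rw [pow_one]
      exact Subtype.ext (Subtype.ext (hexp _ (x : ↥A).2))
    rw [hk] at h1
    exact hu1 (hqpow h1)
  haveI hBn : B.Normal := ⟨fun x hx g => by
    rwa [show g * x * g⁻¹ = x from Subtype.ext (by
      push_cast
      rw [hcomm g g.2 x x.2, mul_inv_cancel_right])]⟩
  -- maximality
  have hout : ∀ c : ↥A, c ∉ B → ∀ x : V, x ∈ S → (∀ b ∈ B, (b : MulAut V) x = x) →
      (c : MulAut V) x = x → x = 1 := by
    intro c hc x hxS hxB hxc
    by_contra hx1
    let T : Subgroup ↥A :=
      { carrier := {d | (d : MulAut V) x = x}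
        one_mem' := rfl
        mul_mem' := fun {a b} (ha : _ = _) (hb : _ = _) => by
          show ((a : MulAut V) * (b : MulAut V)) _ = _
          rw [MulAut.mul_apply, hb, ha]
        inv_mem' := fun {a} (ha : _ = _) => by
          show ((a : MulAut V))⁻¹ _ = _
          conv_lhs => rw [← ha]
          exact (a : MulAut V).symm_apply_apply _ }
    exact hc (hmax (y := T) ⟨x, hxS, hx1, fun d hd => hd⟩ hxB hxc)
  have hcycle : ∀ c : ↥A, c ∉ B →
      ∏ j ∈ Finset.range q, ((c : MulAut V) ^ j) u = 1 := by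
    intro c hc
    have hmem : ∀ j, ((c : MulAut V) ^ j) u ∈ S ∧ ∀ b ∈ B,
        (b : MulAut V) (((c : MulAut V) ^ j) u) = ((c : MulAut V) ^ j) u := by
      intro j
      rw [← hhom]
      refine ⟨fun B' => ?_, fun b hb => ?_⟩
      · rw [← proj_comm A hcomm, huS B', map_one]
      · rw [← MulAut.mul_apply, hcomm b b.2 _ (c ^ j).2, MulAut.mul_apply, huB b hb]
    refine hout c hc _ (Subgroup.prod_mem _ fun j _ => (hmem j).1) (fun b hb => ?_) ?_
    · rw [map_prod]
      exact Finset.prod_congr rfl fun j _ => (hmem j).2 b hb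
    · rw [map_prod]
      have e := Finset.prod_range_succ' (fun j => ((c : MulAut V) ^ j) u) q
      rw [Finset.prod_range_succ, hexp _ c.2, pow_zero] at e
      simp only [pow_succ', MulAut.mul_apply] at e
      exact (mul_right_cancel e).symm
  obtain ⟨a, ha⟩ : ∃ a : ↥A, a ∉ B := by
    by_contra h
    push Not at h
    exact hu1 (hfix u fun c hc => huB ⟨c, hc⟩ (h _))
  have horder : ∀ c : ↥A, c ∉ B → orderOf (QuotientGroup.mk' B c) = q := fun c hc =>
    orderOf_eq_prime (by
      rw [← map_pow, show c ^ q = 1 from Subtype.ext (hexp _ c.2), map_one])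
      fun h => hc ((QuotientGroup.eq_one_iff c).1 h)
  obtain ⟨b, hb⟩ : ∃ b : ↥A, b ∉ B ⊔ Subgroup.zpowers a := by
    by_contra h
    push Not at h
    refine hBq ?_
    have htop : (B ⊔ Subgroup.zpowers a).map (QuotientGroup.mk' B) = ⊤ := by
      rw [(eq_top_iff.2 fun x _ => h x : B ⊔ Subgroup.zpowers a = ⊤),
        Subgroup.map_top_of_surjective _ (QuotientGroup.mk'_surjective B)]
    rw [Subgroup.map_sup, QuotientGroup.map_mk'_self, bot_sup_eq, MonoidHom.map_zpowers] at htop
    rw [Subgroup.index_eq_card, ← Subgroup.card_top, ← htop, Nat.card_zpowers, horder a ha]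
  have hline : ∀ i : ℕ, a ^ i * b ∉ B := fun i h => hb (by
    have h1 : (a ^ i)⁻¹ * (a ^ i * b) ∈ B ⊔ Subgroup.zpowers a :=
      mul_mem (inv_mem (Subgroup.mem_sup_right (pow_mem (Subgroup.mem_zpowers a) i)))
        (Subgroup.mem_sup_left h)
    rwa [inv_mul_cancel_left] at h1)
  have hjout : ∀ j ∈ Finset.range q, j ≠ 0 → a ^ j ∉ B := fun j hj hj0 h => by
    have h1 : (QuotientGroup.mk' B a) ^ j = 1 := by
      rw [← map_pow]; exact (QuotientGroup.eq_one_iff _).2 h
    rw [← orderOf_dvd_iff_pow_eq_one, horder a ha] at h1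
    exact absurd (Nat.le_of_dvd (Nat.pos_of_ne_zero hj0) h1) (not_le.2 (Finset.mem_range.1 hj))
  have key : ∏ i ∈ Finset.range q, ∏ j ∈ Finset.range q,
      (((a ^ i * b : ↥A) : MulAut V) ^ j) u = 1 :=
    Finset.prod_eq_one fun i _ => hcycle _ (hline i)
  rw [Finset.prod_comm, Finset.prod_eq_single 0] at key
  · simp only [pow_zero, MulAut.one_apply, Finset.prod_const, Finset.card_range] at key
    exact hu1 (hqpow (k := 1) (by rwa [pow_one]))
  · intro j hj hj0
    have e : ∀ i, (((a ^ i * b : ↥A) : MulAut V) ^ j) u =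
        ((b : MulAut V) ^ j) (((((a ^ j : ↥A)) : MulAut V) ^ i) u) := fun i => by
      have h2 : ((a ^ i * b : ↥A) : MulAut V) ^ j =
          (b : MulAut V) ^ j * ((a ^ j : ↥A) : MulAut V) ^ i := by
        letI cgA : CommGroup ↥A :=
          { (inferInstance : Group ↥A) with mul_comm := fun x y => Subtype.ext (hcomm x x.2 y y.2) }
        rw [← hhom, ← hhom, ← hhom, ← Subgroup.coe_mul, mul_pow, ← pow_mul, ← pow_mul,
          mul_comm (b ^ j), mul_comm i j]
      rw [h2, MulAut.mul_apply]
    rw [Finset.prod_congr rfl fun i _ => e i, ← map_prod, hcycle _ (hjout j hj hj0), map_one]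
  · exact fun h => absurd (Finset.mem_range.2 hq.out.pos) h

/-- The part of `V` over a hyperplane. -/
noncomputable def part (B : Hyp A q) : Subgroup V := (proj A B.1).range

theorem part_fixed {B : Hyp A q} {u : V} (hu : u ∈ part A q B) {c : ↥A} (hc : c ∈ B.1) :
    (c : MulAut V) u = u := by
  obtain ⟨v, rfl⟩ := hu
  exact proj_apply_mem A hc v

include hq hcomm hexp hqV hfix in
theorem injective_projs : Function.Injective fun (v : V) (B : Hyp A q) => proj A B.1 v := by
  intro v w h
  rw [← div_eq_one]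
  refine eq_one_of_proj A q hcomm hexp hqV hfix fun B => ?_
  rw [map_div, div_eq_one]
  exact congrFun h B

include hq hexp hqV in
theorem exists_root {B : Hyp A q} {u : V} (hu : u ∈ part A q B) :
    ∃ x ∈ part A q B, x ^ Nat.card B.1 = u := by
  obtain ⟨k, hk⟩ : ∃ k, Nat.card B.1 = q ^ k := by
    refine IsPGroup.iff_card.1 fun x => ⟨1, ?_⟩
    rw [pow_one]
    exact Subtype.ext (Subtype.ext (hexp _ (x : ↥A).2))
  have hco : Nat.Coprime (Nat.card ↥(part A q B)) (Nat.card B.1) := by
    rw [hk]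
    exact (hqV.coprime_dvd_left (Subgroup.card_subgroup_dvd_card _)).pow_right k
  exact ⟨((powCoprime hco).symm ⟨u, hu⟩ : ↥(part A q B)), Subtype.coe_prop _,
    congrArg Subtype.val ((powCoprime hco).apply_symm_apply ⟨u, hu⟩)⟩

include hq hcomm hexp hqV hfix in
theorem prod_card_part [Fintype (Hyp A q)] :
    ∏ B : Hyp A q, Nat.card ↥(part A q B) = Nat.card V := by
  classical
  rw [← Nat.card_pi]
  refine (Nat.card_eq_of_bijective
    (fun (v : V) (B : Hyp A q) => (⟨proj A B.1 v, v, rfl⟩ : ↥(part A q B))) ⟨?_, ?_⟩).symm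
  · exact fun v w h => injective_projs A q hcomm hexp hqV hfix
      (funext fun B => congrArg Subtype.val (congrFun h B))
  · intro u
    choose x hx hxu using fun B => exists_root A q hexp hqV (u B).2
    refine ⟨∏ B, x B, funext fun B => Subtype.ext ?_⟩
    show proj A B.1 (∏ B', x B') = u B
    rw [map_prod, Finset.prod_eq_single B]
    · rw [proj_of_fixed A fun c hc => part_fixed A q (hx B) hc, hxu]
    · intro B' _ hne
      obtain ⟨v, hv⟩ := hx B'
      rw [← hv]
      exact proj_proj_ne A q hcomm hfix (Ne.symm hne) v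
    · exact fun h => absurd (Finset.mem_univ B) h

variable (h : MulAut V) (hnorm : ∀ a ∈ A, h * a * h⁻¹ ∈ A)

/-- Conjugation by `h` on `A`. -/
noncomputable def conjA : ↥A →* ↥A where
  toFun a := ⟨h * a * h⁻¹, hnorm a a.2⟩
  map_one' := Subtype.ext (by simp)
  map_mul' a b := Subtype.ext (by simp [mul_assoc])

theorem conjA_bijective : Function.Bijective (conjA A h hnorm) := by
  have hinj : Function.Injective (conjA A h hnorm) := fun a b e => by
    have e' : h * (a : MulAut V) * h⁻¹ = h * b * h⁻¹ := congrArg Subtype.val e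
    exact Subtype.ext (mul_left_cancel (mul_right_cancel e'))
  exact ⟨hinj, Finite.injective_iff_surjective.1 hinj⟩

/-- The permutation of hyperplanes. -/
noncomputable def sigma : Equiv.Perm (Hyp A q) :=
  Equiv.ofBijective
    (fun B => ⟨B.1.map (conjA A h hnorm), by
      rw [Subgroup.index_map_of_bijective (conjA_bijective A h hnorm), B.2]⟩)
    (Finite.injective_iff_bijective.1 fun B B' e => Subtype.ext
      (Subgroup.map_injective (conjA_bijective A h hnorm).1 (congrArg Subtype.val e)))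

theorem h_proj (B : Hyp A q) (v : V) :
    h (proj A B.1 v) = proj A (sigma A q h hnorm B).1 (h v) := by
  show h (∏ᶠ b : ↥B.1, ((b : ↥A) : MulAut V) v) =
    ∏ᶠ b : ↥(B.1.map (conjA A h hnorm)), ((b : ↥A) : MulAut V) (h v)
  refine (h.toMonoidHom.map_finprod (Set.toFinite _)).trans ?_
  refine finprod_eq_of_bijective
    (Subgroup.equivMapOfInjective B.1 _ (conjA_bijective A h hnorm).1) (MulEquiv.bijective _)
    fun b => ?_
  show h (((b : ↥A) : MulAut V) v) = (h * ((b : ↥A) : MulAut V) * h⁻¹) (h v)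
  rw [MulAut.mul_apply, MulAut.mul_apply]
  exact congrArg (fun z => h (((b : ↥A) : MulAut V) z)) (h.symm_apply_apply v).symm

include hcomm in
theorem ha_proj (a : ↥A) (B : Hyp A q) (v : V) :
    (h * (a : MulAut V)) (proj A B.1 v) =
      proj A (sigma A q h hnorm B).1 ((h * (a : MulAut V)) v) := by
  rw [MulAut.mul_apply, MulAut.mul_apply, proj_comm A hcomm, h_proj A q h hnorm]

open scoped Classical in
/-- The bound for one hyperplane. -/
noncomputable def bnd (a : ↥A) (B : Hyp A q) : ℕ :=
  if sigma A q h hnorm B = B then Nat.card ↥(part A q B ⊓ fixG (h * (a : MulAut V)))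
  else Nat.card ↥(part A q B)

include hq hcomm hexp hqV hfix in
theorem card_fix_le [Fintype (Hyp A q)] (a : ↥A) (S : Finset (Hyp A q))
    (hS : ∀ B, ∃ B' ∈ S, (sigma A q h hnorm).SameCycle B' B) :
    Nat.card ↥(fixG (h * (a : MulAut V))) ≤ ∏ B ∈ S, bnd A q h hnorm a B := by
  classical
  set σ := sigma A q h hnorm with hσ
  let R : Hyp A q → Subgroup V := fun B =>
    if σ B = B then part A q B ⊓ fixG (h * (a : MulAut V)) else part A q B
  have hstep : ∀ v ∈ fixG (h * (a : MulAut V)), ∀ B,
      (h * (a : MulAut V)) (proj A B.1 v) = proj A (σ B).1 v := fun v hv B => by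
    rw [ha_proj A q hcomm h hnorm, mem_fixG.1 hv]
  have hiter : ∀ v ∈ fixG (h * (a : MulAut V)), ∀ (k : ℕ) B,
      ((h * (a : MulAut V)) ^ k) (proj A B.1 v) = proj A ((σ ^ k) B).1 v := by
    intro v hv k
    induction k with
    | zero => intro B; rfl
    | succ k ih =>
      intro B
      rw [pow_succ', MulAut.mul_apply, ih, hstep v hv, pow_succ', Equiv.Perm.mul_apply]
  have hmem : ∀ v ∈ fixG (h * (a : MulAut V)), ∀ B : Hyp A q, proj A B.1 v ∈ R B := by
    intro v hv B
    simp only [R]
    split_ifs with hB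
    · refine Subgroup.mem_inf.2 ⟨⟨v, rfl⟩, ?_⟩
      rw [mem_fixG, hstep v hv, hB]
    · exact ⟨v, rfl⟩
  have hle : Nat.card ↥(fixG (h * (a : MulAut V))) ≤ Nat.card ((B : ↥S) → ↥(R B)) := by
    refine Nat.card_le_card_of_injective
      (fun v B => (⟨proj A (B : Hyp A q).1 v, hmem v v.2 B⟩ : ↥(R B))) fun v w e => Subtype.ext ?_
    refine injective_projs A q hcomm hexp hqV hfix (funext fun B => ?_)
    obtain ⟨B', hB', hc⟩ := hS B
    obtain ⟨k, hk⟩ := hc.exists_nat_pow_eq
    have e' : proj A B'.1 (v : V) = proj A B'.1 (w : V) :=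
      congrArg Subtype.val (congrFun e ⟨B', hB'⟩)
    show proj A B.1 (v : V) = proj A B.1 (w : V)
    rw [← hk, ← hiter v v.2, ← hiter w w.2, e']
  refine hle.trans (le_of_eq ?_)
  rw [Nat.card_pi, Finset.prod_coe_sort S fun B => Nat.card ↥(R B)]
  refine Finset.prod_congr rfl fun B _ => ?_
  simp only [R, bnd]
  rw [← hσ]
  split_ifs <;> rfl

open scoped Classical in
include hq hcomm hexp hqV hfix in
theorem card_fix_sq_le [Fintype (Hyp A q)] (a : ↥A) :
    Nat.card ↥(fixG (h * (a : MulAut V))) ^ 2 ≤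
      ∏ B : Hyp A q, (if sigma A q h hnorm B = B
        then Nat.card ↥(part A q B ⊓ fixG (h * (a : MulAut V))) ^ 2
        else Nat.card ↥(part A q B)) := by
  classical
  set σ := sigma A q h hnorm with hσ
  let e := Fintype.equivFin (Hyp A q)
  let S : Finset (Hyp A q) := Finset.univ.filter fun B => ∀ B', σ.SameCycle B B' → e B ≤ e B'
  let T : Finset (Hyp A q) := S.image σ
  have hS : ∀ B, ∃ B' ∈ S, σ.SameCycle B' B := fun B => by
    obtain ⟨B', hB', hmin⟩ := (Finset.univ.filter fun B' => σ.SameCycle B B').exists_min_image e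
      ⟨B, Finset.mem_filter.2 ⟨Finset.mem_univ _, Equiv.Perm.SameCycle.refl σ B⟩⟩
    have hBB' := (Finset.mem_filter.1 hB').2
    exact ⟨B', Finset.mem_filter.2 ⟨Finset.mem_univ _, fun C hC =>
      hmin C (Finset.mem_filter.2 ⟨Finset.mem_univ _, hBB'.trans hC⟩)⟩, hBB'.symm⟩
  have hT : ∀ B, ∃ B' ∈ T, σ.SameCycle B' B := fun B => by
    obtain ⟨B', hB', hc⟩ := hS B
    exact ⟨σ B', Finset.mem_image_of_mem σ hB',
      (Equiv.Perm.SameCycle.refl σ B').apply_left.trans hc⟩
  have hinter : ∀ B, B ∈ S → B ∈ T → σ B = B := by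
    intro B hB hB'
    obtain ⟨C, hC, rfl⟩ := Finset.mem_image.1 hB'
    have hc : σ.SameCycle C (σ C) := (Equiv.Perm.SameCycle.refl σ C).apply_right
    have h1 := (Finset.mem_filter.1 hC).2 _ hc
    have h2 := (Finset.mem_filter.1 hB).2 _ hc.symm
    have he : σ C = C := e.injective (le_antisymm h2 h1)
    rw [he, he]
  have hone : ∀ B, 1 ≤ bnd A q h hnorm a B := fun B => by
    simp only [bnd]; split_ifs <;> exact Nat.card_pos
  calc Nat.card ↥(fixG (h * (a : MulAut V))) ^ 2
      ≤ (∏ B ∈ S, bnd A q h hnorm a B) * ∏ B ∈ T, bnd A q h hnorm a B := by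
        rw [sq]
        exact Nat.mul_le_mul (card_fix_le A q hcomm hexp hqV hfix h hnorm a S hS)
          (card_fix_le A q hcomm hexp hqV hfix h hnorm a T hT)
    _ = ∏ B : Hyp A q, ((if B ∈ S then bnd A q h hnorm a B else 1) *
          (if B ∈ T then bnd A q h hnorm a B else 1)) := by
        rw [Finset.prod_mul_distrib, Finset.prod_ite_mem, Finset.prod_ite_mem, Finset.univ_inter,
          Finset.univ_inter]
    _ ≤ _ := Finset.prod_le_prod' fun B _ => by
        have := hone B
        rcases eq_or_ne (σ B) B with hB | hB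
        · rw [if_pos hB, sq, show bnd A q h hnorm a B =
            Nat.card ↥(part A q B ⊓ fixG (h * (a : MulAut V))) from if_pos hB] at *
          split_ifs <;> nlinarith
        · rw [if_neg hB, show bnd A q h hnorm a B = Nat.card ↥(part A q B) from if_neg hB] at *
          by_cases h1 : B ∈ S <;> by_cases h2 : B ∈ T <;>
            simp only [h1, h2, if_true, if_false, mul_one, one_mul]
          · exact absurd (hinter B h1 h2) hB
          all_goals omega

include hq hcomm hexp hqV hfix hnorm in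
theorem coset_bound : ∀ [Fintype ↥A],
    ∏ a : ↥A, Nat.card ↥(fixG (h * (a : MulAut V))) ^ 2 ≤ Nat.card V ^ Nat.card ↥A := by
  intro _
  classical
  haveI := Fintype.ofFinite (Hyp A q)
  refine (Finset.prod_le_prod' fun a _ => card_fix_sq_le A q hcomm hexp hqV hfix h hnorm a).trans ?_
  rw [Finset.prod_comm, ← prod_card_part A q hcomm hexp hqV hfix, ← Finset.prod_pow]
  refine Finset.prod_le_prod' fun B _ => ?_
  by_cases hB : sigma A q h hnorm B = B
  · simp only [hB, if_true, sq]
    obtain ⟨c, hc⟩ : ∃ c : ↥A, c ∉ B.1 := by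
      by_contra hall
      push Not at hall
      have := B.2
      rw [(eq_top_iff.2 fun x _ => hall x : B.1 = ⊤), Subgroup.index_top] at this
      exact hq.out.ne_one this.symm
    rw [Finset.prod_mul_distrib]
    conv_lhs => arg 2; rw [← Fintype.prod_equiv (Equiv.mulRight c)
      (fun a => Nat.card ↥(part A q B ⊓ fixG (h * ((a * c : ↥A) : MulAut V)))) _ fun a => rfl]
    rw [← Finset.prod_mul_distrib]
    refine le_of_le_of_eq (Finset.prod_le_prod' (g := fun _ => Nat.card ↥(part A q B)) fun a _ => ?_)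
      (by rw [Finset.prod_const, Finset.card_univ, Nat.card_eq_fintype_card (α := ↥A)])
    rw [← Nat.card_prod]
    refine Nat.card_le_card_of_injective (fun x => (⟨(x.1 : V) * x.2,
      mul_mem (Subgroup.mem_inf.1 x.1.2).1 (Subgroup.mem_inf.1 x.2.2).1⟩ : ↥(part A q B))) ?_
    rintro ⟨x1, x2⟩ ⟨y1, y2⟩ e
    have e' : (x1 : V) * x2 = y1 * y2 := congrArg Subtype.val e
    set z : V := (y1 : V)⁻¹ * x1 with hz
    have hz2 : z = (y2 : V) * (x2 : V)⁻¹ := by
      rw [hz, inv_mul_eq_iff_eq_mul, ← mul_assoc, ← e', mul_inv_cancel_right]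
    have hz1m : z ∈ part A q B ⊓ fixG (h * (a : MulAut V)) := mul_mem (inv_mem y1.2) x1.2
    have hz2m : z ∈ part A q B ⊓ fixG (h * ((a * c : ↥A) : MulAut V)) := by
      rw [hz2]; exact mul_mem y2.2 (inv_mem x2.2)
    obtain ⟨hzB, hza⟩ := Subgroup.mem_inf.1 hz1m
    have hzc : (c : MulAut V) z = z := by
      have h1 := mem_fixG.1 (Subgroup.mem_inf.1 hz2m).2
      rw [Subgroup.coe_mul, ← mul_assoc, MulAut.mul_apply] at h1
      exact (h * (a : MulAut V)).injective (h1.trans (mem_fixG.1 hza).symm)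
    have hz0 : z = 1 := by
      apply hfix
      let T : Subgroup ↥A :=
        { carrier := {d | (d : MulAut V) z = z}
          one_mem' := rfl
          mul_mem' := fun {a b} (ha : _ = _) (hb : _ = _) => by
            show ((a : MulAut V) * (b : MulAut V)) _ = _
            rw [MulAut.mul_apply, hb, ha]
          inv_mem' := fun {a} (ha : _ = _) => by
            show ((a : MulAut V))⁻¹ _ = _
            conv_lhs => rw [← ha]
            exact (a : MulAut V).symm_apply_apply _ }
      have hBT : B.1 ≤ T := fun d hd => part_fixed A q hzB hd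
      have hd := Subgroup.index_dvd_of_le hBT
      rw [B.2] at hd
      rcases (Nat.dvd_prime hq.out).1 hd with h0 | h0
      · intro d hd
        have : (⟨d, hd⟩ : ↥A) ∈ T := by rw [Subgroup.index_eq_one.1 h0]; exact Subgroup.mem_top _
        exact this
      · have hTB : T = B.1 := by
          refine (Subgroup.eq_of_le_of_card_ge hBT ?_).symm
          have e1 := B.1.card_mul_index
          have e2 := T.card_mul_index
          rw [B.2] at e1
          rw [h0] at e2
          exact (Nat.eq_of_mul_eq_mul_right hq.out.pos (e2.trans e1.symm)).le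
        exact absurd (hTB ▸ (hzc : c ∈ T)) hc
    have h1 : x1 = y1 := Subtype.ext (inv_mul_eq_one.1 hz0).symm
    have h2 : x2 = y2 := Subtype.ext (mul_left_cancel (h1 ▸ e'))
    rw [h1, h2]
  · simp only [hB, if_false, Finset.prod_const, Finset.card_univ, Nat.card_eq_fintype_card (α := ↥A)]
    exact le_rfl

end Elementary

/-- A solvable irreducible nontrivial group of automorphisms fixes at most the square root of the
module on average. -/
theorem irreducible_bound {G : Type*} [Group G] [Fintype G] [Group.IsSolvable G]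
    {p : ℕ} [hp : Fact p.Prime] (hV : IsPGroup p V) (φ : G →* MulAut V)
    (hne : ∃ g v, φ g v ≠ v)
    (hirr : ∀ W : Subgroup V, (∀ g, ∀ w ∈ W, φ g w ∈ W) → W = ⊥ ∨ W = ⊤) :
    ∏ g : G, Nat.card ↥(fixG (φ g)) ^ 2 ≤ Nat.card V ^ Nat.card G := by
  classical
  haveI : Finite (MulAut V) := Finite.of_injective (fun f : MulAut V => (f : V → V)) DFunLike.coe_injective
  haveI hsolv : Group.IsSolvable φ.range :=
    Group.isSolvable_of_surjective (f := φ.rangeRestrict) φ.rangeRestrict_surjective
  obtain ⟨g₀, v₀, hgv⟩ := hne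
  have htop : (⊤ : Subgroup φ.range) ≠ ⊥ := fun h => hgv (by
    have h1 : (⟨φ g₀, g₀, rfl⟩ : φ.range) = 1 := Subgroup.mem_bot.1 (h ▸ Subgroup.mem_top _)
    rw [show φ g₀ = 1 from congrArg Subtype.val h1]
    rfl)
  obtain ⟨A₀, q, hq, hA₀n, hA₀ne, -, hA₀c, hA₀e, hA₀p, -⟩ :=
    Cfsg.Agent.SolvBasic.exists_minimal_normal_abelian
      (inferInstance : (⊤ : Subgroup φ.range).Normal) htop
  haveI := Fact.mk hq
  set A : Subgroup (MulAut V) := A₀.map φ.range.subtype with hA
  have hcomm : ∀ a ∈ A, ∀ b ∈ A, a * b = b * a := by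
    rintro _ ⟨a, ha, rfl⟩ _ ⟨b, hb, rfl⟩
    rw [← map_mul, ← map_mul, setLike_mul_comm (s := A₀) ha hb]
  have hexp : ∀ a ∈ A, a ^ q = 1 := by
    rintro _ ⟨a, ha, rfl⟩
    rw [← map_pow, hA₀e a ha, map_one]
  have hnorm : ∀ g : G, ∀ a ∈ A, φ g * a * (φ g)⁻¹ ∈ A := by
    rintro g _ ⟨a, ha, rfl⟩
    exact ⟨_, hA₀n.conj_mem a ha ⟨φ g, g, rfl⟩, rfl⟩
  let W : Subgroup V :=
    { carrier := {v | ∀ a ∈ A, a v = v}
      one_mem' := fun a _ => map_one a
      mul_mem' := fun {x y} hx hy a ha => by rw [map_mul, hx a ha, hy a ha]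
      inv_mem' := fun {x} hx a ha => by rw [map_inv, hx a ha] }
  have hW : W = ⊥ := by
    refine (hirr W fun g w hw a ha => ?_).resolve_right fun h => ?_
    · have h1 := hw _ (by simpa using hnorm g⁻¹ a ha)
      simp only [MulAut.mul_apply] at h1
      have := congrArg (φ g) h1
      have h2 : ∀ x : V, φ g (φ g⁻¹ x) = x := fun x => by
        show (φ g * φ g⁻¹) x = x
        rw [← map_mul, mul_inv_cancel, map_one]; rfl
      simp only [map_inv] at h2 this ⊢
      simp only [MulAut.apply_inv_self] at this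
      exact this
    · refine hA₀ne (A₀.eq_bot_iff_forall.2 fun a ha => Subtype.ext (MulEquiv.ext fun v => ?_))
      exact (h ▸ Subgroup.mem_top v : v ∈ W) _ ⟨a, ha, rfl⟩
  have hfix : ∀ v : V, (∀ a ∈ A, a v = v) → v = 1 := fun v hv =>
    Subgroup.mem_bot.1 (hW ▸ (hv : v ∈ W))
  have hqV : (Nat.card V).Coprime q := by
    rw [Nat.coprime_comm, hq.coprime_iff_not_dvd]
    intro hd
    have hAp : IsPGroup q ↥A := fun a => ⟨1, Subtype.ext (by
      rw [pow_one]; exact hexp a a.2)⟩
    obtain ⟨v, hv, hv1⟩ := hAp.exists_fixed_point_of_prime_dvd_card_of_fixed_point V hd (a := 1)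
      (fun a => map_one (a : MulAut V))
    exact hv1 (hfix v fun a ha => hv ⟨a, ha⟩).symm
  haveI := Fintype.ofFinite ↥A
  -- average over the cosets
  have key : ∀ a : ↥A, ∏ g : G, Nat.card ↥(fixG (φ g * (a : MulAut V))) ^ 2 =
      ∏ g : G, Nat.card ↥(fixG (φ g)) ^ 2 := fun a => by
    obtain ⟨⟨_, g₁, rfl⟩, -, e⟩ := a.2
    refine Fintype.prod_equiv (Equiv.mulRight g₁) _ _ fun g => ?_
    rw [Equiv.coe_mulRight, map_mul, ← e]
    rfl
  have h1 : (∏ g : G, Nat.card ↥(fixG (φ g)) ^ 2) ^ Nat.card ↥A ≤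
      (Nat.card V ^ Nat.card G) ^ Nat.card ↥A := by
    rw [Nat.card_eq_fintype_card (α := ↥A), ← Finset.card_univ, ← Finset.prod_const,
      ← Finset.prod_congr rfl fun a _ => key a, Finset.prod_comm, Finset.card_univ,
      ← Nat.card_eq_fintype_card, ← pow_mul, mul_comm, pow_mul, Nat.card_eq_fintype_card (α := G),
      ← Finset.card_univ, ← Finset.prod_const]
    exact Finset.prod_le_prod' fun g _ => coset_bound A q hcomm hexp hqV hfix (φ g) (hnorm g)
  exact (Nat.pow_le_pow_iff_left Nat.card_pos.ne').1 h1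

/-- Exponent form of the bound. -/
theorem irreducible_bound_factorization {G : Type*} [Group G] [Fintype G] [Group.IsSolvable G]
    {p : ℕ} [hp : Fact p.Prime] (hV : IsPGroup p V) (φ : G →* MulAut V)
    (hne : ∃ g v, φ g v ≠ v)
    (hirr : ∀ W : Subgroup V, (∀ g, ∀ w ∈ W, φ g w ∈ W) → W = ⊥ ∨ W = ⊤) :
    Nat.card G * (Nat.card V).factorization p ≤
      ∑ g : G, 2 * ((fixG (φ g)).index).factorization p := by
  classical
  have h := irreducible_bound hV φ hne hirr
  have hW : ∀ W : Subgroup V, Nat.card ↥W = p ^ (Nat.card ↥W).factorization p := fun W => by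
    obtain ⟨k, hk⟩ := IsPGroup.iff_card.1 (hV.to_subgroup W)
    rw [hk, Nat.factorization_pow_self hp.out]
  obtain ⟨n, hn⟩ := IsPGroup.iff_card.1 hV
  rw [Finset.prod_congr rfl fun g _ => by rw [hW (fixG (φ g)), ← pow_mul], Finset.prod_pow_eq_pow_sum,
    hn, ← pow_mul, Nat.pow_le_pow_iff_right hp.out.one_lt, mul_comm n] at h
  have hsplit : ∀ g : G, 2 * n =
      (Nat.card ↥(fixG (φ g))).factorization p * 2 + 2 * ((fixG (φ g)).index).factorization p := by
    intro g
    have e := (fixG (φ g)).card_mul_index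
    have e2 := congrArg (fun m => m.factorization p) e
    simp only [hn, Nat.factorization_pow_self hp.out] at e2
    rw [Nat.factorization_mul Nat.card_pos.ne' Subgroup.index_ne_zero_of_finite,
      Finsupp.add_apply] at e2
    omega
  have htot := Finset.sum_congr (s₁ := (Finset.univ : Finset G)) rfl fun g _ => hsplit g
  rw [Finset.sum_const, Finset.card_univ, smul_eq_mul, Finset.sum_add_distrib,
    ← Nat.card_eq_fintype_card] at htot
  rw [hn, Nat.factorization_pow_self hp.out]
  nlinarith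

end Cfsg.Agent.PrimClass
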